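import Mathlib

set_option linter.style.haveILetI false
set_option linter.unusedVariables false
set_option linter.unusedSectionVars false
set_option autoImplicit false
set_option backward.isDefEq.respectTransparency.types false
set_option synthInstance.maxHeartbeats 400000
set_option maxHeartbeats 1600000

namespace Groth.Agent.Helper7.LenPow

open TensorProduct

universe u

/-! helper7: reducedness of base changes of separably generated field extensions; small ring lemmas -/

/-! helper7: reducedness of base changes of separably generated field extensions -/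

/-- a finite separable field extension tensored with a domain is reduced -/
theorem isReduced_tensor_of_isSeparable (E L₁ D : Type u) [Field E] [Field L₁] [Algebra E L₁]
    [Algebra.IsSeparable E L₁] [Module.Finite E L₁] [CommRing D] [IsDomain D] [Algebra E D] :
    IsReduced (L₁ ⊗[E] D) := by
  haveI : Algebra.FormallyUnramified E L₁ := Algebra.FormallyUnramified.of_isSeparable E L₁
  haveI : Algebra.EssFiniteType E L₁ := inferInstance
  haveI hred : IsReduced (FractionRing D ⊗[E] L₁) :=
    Algebra.FormallyUnramified.isReduced_of_field (FractionRing D) (FractionRing D ⊗[E] L₁)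
  have h1 : IsReduced (D ⊗[E] L₁) :=
    isReduced_of_injective
      (Algebra.TensorProduct.map (IsScalarTower.toAlgHom E D (FractionRing D)) (1 : L₁ →ₐ[E] L₁))
      (Module.Flat.rTensor_preserves_injective_linearMap _
        (IsFractionRing.injective D (FractionRing D)))
  exact isReduced_of_injective (Algebra.TensorProduct.comm E L₁ D)
    (Algebra.TensorProduct.comm E L₁ D).injective

section PT

attribute [local instance] MvPolynomial.algebraMvPolynomial

/-- the tensor product of any field with a rational function field is a domain -/
theorem isDomain_tensor_ratFunc (k K : Type u) [Field k] [Field K] [Algebra k K] (ι : Type u) :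
    IsDomain (K ⊗[k] FractionRing (MvPolynomial ι k)) := by
  have hinj : Function.Injective (algebraMap (MvPolynomial ι k) (MvPolynomial ι K)) :=
    MvPolynomial.map_injective (algebraMap k K) (algebraMap k K).injective
  have hM : Algebra.algebraMapSubmonoid (MvPolynomial ι K) (nonZeroDivisors (MvPolynomial ι k)) ≤
      nonZeroDivisors (MvPolynomial ι K) := by
    rintro _ ⟨a, ha, rfl⟩
    apply mem_nonZeroDivisors_of_ne_zero
    intro h0
    exact (nonZeroDivisors.ne_zero ha) (hinj (by rw [h0, map_zero]))
  haveI hloc : IsLocalization
      (Algebra.algebraMapSubmonoid (MvPolynomial ι K) (nonZeroDivisors (MvPolynomial ι k)))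
      (MvPolynomial ι K ⊗[MvPolynomial ι k] FractionRing (MvPolynomial ι k)) := inferInstance
  haveI hdom : IsDomain (MvPolynomial ι K ⊗[MvPolynomial ι k] FractionRing (MvPolynomial ι k)) :=
    IsLocalization.isDomain_of_le_nonZeroDivisors _ hM
  let c : (MvPolynomial ι K ⊗[MvPolynomial ι k] FractionRing (MvPolynomial ι k)) ≃ₐ[K]
      K ⊗[k] FractionRing (MvPolynomial ι k) :=
    Algebra.IsPushout.cancelBaseChangeAlg k K (MvPolynomial ι k) (MvPolynomial ι K)
      (FractionRing (MvPolynomial ι k))
  exact Function.Injective.isDomain c.symm.toRingEquiv.toRingHom c.symm.injective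

end PT

/-- base change of a finite separable extension of a field `E` such that `E ⊗ K` is a domain -/
theorem isReduced_of_sep (k K E L₁ : Type u) [Field k] [Field K] [Field E] [Field L₁]
    [Algebra k K] [Algebra k E] [Algebra k L₁] [Algebra E L₁] [IsScalarTower k E L₁]
    [Algebra.IsSeparable E L₁] [Module.Finite E L₁] (hdom : IsDomain (E ⊗[k] K)) :
    IsReduced (L₁ ⊗[k] K) := by
  haveI := hdom
  haveI h1 : IsReduced (L₁ ⊗[E] (E ⊗[k] K)) := isReduced_tensor_of_isSeparable E L₁ (E ⊗[k] K)
  let c : L₁ ⊗[E] (E ⊗[k] K) ≃ₐ[E] L₁ ⊗[k] K := Algebra.TensorProduct.cancelBaseChange k E E L₁ K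
  exact isReduced_of_injective c.symm.toRingEquiv.toRingHom c.symm.injective

/-- the localization of a reduced ring at a minimal prime has length one -/
theorem length_eq_one_of_isReduced (R : Type u) [CommRing R] [IsReduced R] (q : Ideal R)
    [q.IsPrime] (hq : q ∈ minimalPrimes R) :
    Module.length (Localization.AtPrime q) (Localization.AtPrime q) = 1 := by
  haveI : Ring.KrullDimLE 0 (Localization.AtPrime q) := Ring.KrullDimLE.of_isLocalization q hq _
  have hF : IsField (Localization.AtPrime q) := Ring.KrullDimLE.isField_of_isReduced
  letI := hF.toField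
  rw [Module.length_eq_one_iff]
  infer_instance

theorem length_eq_of_ringEquiv' {R S : Type u} [CommRing R] [CommRing S] (e : R ≃+* S) :
    Module.length R R = Module.length S S := by
  algebraize [e.toRingHom]
  have h1 : Module.length R S = Module.length S S :=
    Module.length_eq_of_surjective e.surjective
  rw [← h1]
  let l : R ≃ₗ[R] S :=
    { e.toAddEquiv with
      map_smul' := fun r x => by
        show e (r * x) = algebraMap R S r * e x
        rw [map_mul]
        rfl }
  exact l.length_eq

theorem minimalPrimes_comap_ringEquiv' {R R' : Type u} [CommRing R] [CommRing R'] (e : R ≃+* R')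
    (p : Ideal R) (hp : p ∈ minimalPrimes R) : p.comap e.symm.toRingHom ∈ minimalPrimes R' := by
  haveI := hp.1.1
  refine ⟨⟨Ideal.comap_isPrime _ _, bot_le⟩, ?_⟩
  rintro J ⟨hJ, -⟩ hle
  have h1 : J.comap e.toRingHom ≤ p := by
    intro a ha
    have := hle ha
    rw [Ideal.mem_comap] at this
    simpa using this
  have h2 := hp.2 ⟨Ideal.comap_isPrime _ _, bot_le⟩ h1
  intro a ha
  rw [Ideal.mem_comap] at ha
  have := h2 ha
  rw [Ideal.mem_comap] at this
  simpa using this

end Groth.Agent.Helper7.LenPow
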