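import Mathlib
import Groth.Agent.Lib.Helper7.PerfBC.PIAlg
import Groth.Agent.Lib.Helper7.LenPow.Red

set_option linter.style.haveILetI false
set_option linter.unusedVariables false
set_option linter.unusedSectionVars false
set_option autoImplicit false
set_option backward.isDefEq.respectTransparency.types false
set_option synthInstance.maxHeartbeats 400000
set_option maxHeartbeats 1600000

namespace Groth.Agent.Helper7.LenPow

open TensorProduct IsLocalRing Groth.Agent.Helper7.PerfBC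

universe u

/-! helper7: the purely inseparable step: multiplicities of minimal primes of L tensor K over a reduced L0 tensor K -/

/-! helper7: the purely inseparable step: multiplicities of minimal primes of `L ⊗ K` over a reduced `L₀ ⊗ K` -/

section U

variable (L₀ L F : Type u) [Field L₀] [Field L] [Algebra L₀ L] [CommRing F] [Algebra L₀ F]
  (p : ℕ) [Fact p.Prime] [CharP L₀ p]

theorem isUnit_or_isNilpotent_of_isField (hF : IsField F)
    (hA : ∀ a : L, ∃ n : ℕ, a ^ p ^ n ∈ (algebraMap L₀ L).range) (b : L ⊗[L₀] F) :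
    IsUnit b ∨ IsNilpotent b := by
  letI := hF.toField
  exact isUnit_or_isNilpotent p hA b

theorem length_pow_of_isField [IsPurelyInseparable L₀ L] [Module.Finite L₀ L] (hF : IsField F) :
    ∃ j : ℕ, Module.length (L ⊗[L₀] F) (L ⊗[L₀] F) = ((p ^ j : ℕ) : ℕ∞) := by
  letI := hF.toField
  have hfin : Module.length (L ⊗[L₀] F) (L ⊗[L₀] F) ≠ ⊤ := by
    rw [length_eq_of_ringEquiv' (Algebra.TensorProduct.comm L₀ L F).toRingEquiv]
    haveI : Module.Finite F (F ⊗[L₀] L) := inferInstance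
    haveI : IsArtinianRing (F ⊗[L₀] L) := IsArtinianRing.of_finite F (F ⊗[L₀] L)
    rw [Module.length_ne_top_iff]
    exact isFiniteLength_iff_isNoetherian_isArtinian.mpr ⟨inferInstance, inferInstance⟩
  exact length_tensor_pow L₀ F L p hfin

end U

section Core

variable (k K L₀ L : Type u) [Field k] [Field K] [Field L₀] [Field L] [Algebra k K]
  [Algebra k L₀] [Algebra k L] [Algebra L₀ L] [IsScalarTower k L₀ L]
  (p : ℕ) [Fact p.Prime] [CharP k p]

theorem core [IsPurelyInseparable L₀ L] [Module.Finite L₀ L]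
    (hred : IsReduced (L₀ ⊗[k] K)) (q : Ideal (L ⊗[k] K)) [q.IsPrime]
    (hq : q ∈ minimalPrimes (L ⊗[k] K)) :
    ∃ n : ℕ, Module.length (Localization.AtPrime q) (Localization.AtPrime q) =
      ((p ^ n : ℕ) : ℕ∞) := by
  haveI := hred
  haveI hcharL₀ : CharP L₀ p := charP_of_injective_algebraMap (algebraMap k L₀).injective p
  letI algR : Algebra (L₀ ⊗[k] K) (L ⊗[k] K) := (φL k K L₀ L).toRingHom.toAlgebra
  have halg : ∀ c : L₀ ⊗[k] K, algebraMap (L₀ ⊗[k] K) (L ⊗[k] K) c = φL k K L₀ L c := by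
    intro c
    rfl
  haveI tower : IsScalarTower L₀ (L₀ ⊗[k] K) (L ⊗[k] K) :=
    IsScalarTower.of_algebraMap_eq (fun c => by
      rw [halg (algebraMap L₀ (L₀ ⊗[k] K) c), Algebra.TensorProduct.algebraMap_apply,
        Algebra.TensorProduct.algebraMap_apply, Algebra.TensorProduct.map_tmul, map_one]
      rfl)
  haveI hpush : Algebra.IsPushout L₀ L (L₀ ⊗[k] K) (L ⊗[k] K) :=
    Algebra.IsPushout.tensorProduct_tensorProduct k K L₀ L (by
      ext l
      show φL k K L₀ L ((1 : L₀) ⊗ₜ[k] l) = (1 : L) ⊗ₜ[k] l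
      rw [Algebra.TensorProduct.map_tmul, map_one]
      rfl)
  haveI hflat : Module.Flat (L₀ ⊗[k] K) (L ⊗[k] K) := flat_level k K L₀ L
  -- the contraction of `q`
  obtain ⟨q₀, hq₀def⟩ : ∃ q₀ : Ideal (L₀ ⊗[k] K), q₀ = q.under (L₀ ⊗[k] K) := ⟨_, rfl⟩
  haveI hq₀prime : q₀.IsPrime := by rw [hq₀def]; infer_instance
  haveI hover : q.LiesOver q₀ := ⟨hq₀def⟩
  have hq₀ : q₀ ∈ minimalPrimes (L₀ ⊗[k] K) := by
    refine ⟨⟨hq₀prime, bot_le⟩, ?_⟩
    rintro p' ⟨hp', -⟩ hle
    haveI := hp'
    obtain ⟨P, hPq, hPprime, hPover⟩ :=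
      Ideal.exists_ideal_le_liesOver_of_le (p := p') (q := q₀) q hle
    have hqP : q ≤ P := hq.2 ⟨hPprime, bot_le⟩ hPq
    have hPeq : P = q := le_antisymm hPq hqP
    have h3 : p' = q₀ := by rw [hPover.over, hPeq, hq₀def]
    rw [h3]
  -- the local ring of the reduced ring at the minimal prime is a field
  haveI hdim0 : Ring.KrullDimLE 0 (Localization.AtPrime q₀) :=
    Ring.KrullDimLE.of_isLocalization q₀ hq₀ _
  have hF : IsField (Localization.AtPrime q₀) := Ring.KrullDimLE.isField_of_isReduced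
  -- the localization of `L ⊗ K` at the image of the complement of `q₀`
  haveI hlocC : IsLocalization (Algebra.algebraMapSubmonoid (L ⊗[k] K) q₀.primeCompl)
      ((L ⊗[k] K) ⊗[L₀ ⊗[k] K] Localization.AtPrime q₀) := inferInstance
  let e : ((L ⊗[k] K) ⊗[L₀ ⊗[k] K] Localization.AtPrime q₀) ≃ₐ[L]
      L ⊗[L₀] Localization.AtPrime q₀ :=
    Algebra.IsPushout.cancelBaseChangeAlg L₀ L (L₀ ⊗[k] K) (L ⊗[k] K) (Localization.AtPrime q₀)
  have hA : ∀ a : L, ∃ n : ℕ, a ^ p ^ n ∈ (algebraMap L₀ L).range :=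
    fun a => IsPurelyInseparable.pow_mem L₀ p a
  have hUN : ∀ c : (L ⊗[k] K) ⊗[L₀ ⊗[k] K] Localization.AtPrime q₀,
      IsUnit c ∨ IsNilpotent c := by
    intro c
    rcases isUnit_or_isNilpotent_of_isField L₀ L (Localization.AtPrime q₀) p hF hA (e c) with h | h
    · left
      have := h.map e.symm
      rwa [e.symm_apply_apply] at this
    · right
      have := h.map e.symm
      rwa [e.symm_apply_apply] at this
  have hMle : Algebra.algebraMapSubmonoid (L ⊗[k] K) q₀.primeCompl ≤ q.primeCompl := by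
    rintro _ ⟨a, ha, rfl⟩
    intro hmem
    apply ha
    rw [hq₀def]
    exact hmem
  have hunits : ∀ r ∈ q.primeCompl, IsUnit (algebraMap (L ⊗[k] K)
      ((L ⊗[k] K) ⊗[L₀ ⊗[k] K] Localization.AtPrime q₀) r) := by
    intro r hr
    rcases hUN (algebraMap _ _ r) with h | ⟨n, hn⟩
    · exact h
    · exfalso
      rw [← map_pow] at hn
      obtain ⟨⟨m, hm⟩, hmr⟩ := (IsLocalization.map_eq_zero_iff
        (Algebra.algebraMapSubmonoid (L ⊗[k] K) q₀.primeCompl) _ (r ^ n)).mp hn
      have h0 : m * r ^ n ∈ q := by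
        rw [hmr]
        exact q.zero_mem
      rcases Ideal.IsPrime.mem_or_mem inferInstance h0 with h1 | h1
      · exact hMle hm h1
      · exact hr (Ideal.IsPrime.mem_of_pow_mem inferInstance n h1)
  haveI hlocq : IsLocalization q.primeCompl
      ((L ⊗[k] K) ⊗[L₀ ⊗[k] K] Localization.AtPrime q₀) :=
    IsLocalization.of_le (Algebra.algebraMapSubmonoid (L ⊗[k] K) q₀.primeCompl) q.primeCompl
      hMle hunits
  let e2 : Localization.AtPrime q ≃ₐ[L ⊗[k] K]
      ((L ⊗[k] K) ⊗[L₀ ⊗[k] K] Localization.AtPrime q₀) :=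
    IsLocalization.algEquiv q.primeCompl _ _
  rw [length_eq_of_ringEquiv' e2.toRingEquiv, length_eq_of_ringEquiv' e.toRingEquiv]
  exact length_pow_of_isField L₀ L (Localization.AtPrime q₀) p hF

end Core

end Groth.Agent.Helper7.LenPow
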