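import Mathlib
import Groth.Agent.Lib.Helper7.LenPow.Core

set_option linter.style.haveILetI false
set_option linter.unusedVariables false
set_option linter.unusedSectionVars false
set_option autoImplicit false
set_option backward.isDefEq.respectTransparency.types false
set_option synthInstance.maxHeartbeats 400000
set_option maxHeartbeats 1600000

namespace Groth.Agent.Helper7.LenPow

open TensorProduct IsLocalRing

universe u

/-! helper7: multiplicities of the components of the base change of a finitely generated field extension are powers of the exponential characteristic (S1875) -/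

/-! helper7: multiplicities of the components of the base change of a finitely generated field extension are powers of the exponential characteristic (S1875) -/

theorem main_abs (k K E L : Type u) [Field k] [Field K] [Field E] [Field L] [Algebra k K]
    [Algebra k E] [Algebra k L] [Algebra E L] [IsScalarTower k E L] [Module.Finite E L]
    (hdom : IsDomain (E ⊗[k] K)) (p : ℕ) [hp : ExpChar k p] (q : Ideal (L ⊗[k] K)) [q.IsPrime]
    (hq : q ∈ minimalPrimes (L ⊗[k] K)) :
    ∃ n : ℕ, Module.length (Localization.AtPrime q) (Localization.AtPrime q) =
      ((p ^ n : ℕ) : ℕ∞) := by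
  cases hp with
  | zero =>
    haveI : CharZero E := charZero_of_injective_algebraMap (algebraMap k E).injective
    haveI : Algebra.IsSeparable E L := inferInstance
    haveI hred : IsReduced (L ⊗[k] K) := isReduced_of_sep k K E L hdom
    refine ⟨0, ?_⟩
    rw [length_eq_one_of_isReduced _ q hq]
    simp
  | prime hprime =>
    haveI : Fact p.Prime := ⟨hprime⟩
    have hred : IsReduced (↥(separableClosure E L) ⊗[k] K) :=
      isReduced_of_sep k K E (separableClosure E L) hdom
    haveI : IsScalarTower k ↥(separableClosure E L) L :=
      IsScalarTower.of_algebraMap_eq (fun c => rfl)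
    exact core k K (separableClosure E L) L p hred q hq

theorem S1875_main (k K L : Type u) [Field k] [Field K] [Field L] [Algebra k K] [Algebra k L]
    (hL : (⊤ : IntermediateField k L).FG) (p : ℕ) [ExpChar k p] (q : Ideal (K ⊗[k] L))
    [q.IsPrime] (hq : q ∈ minimalPrimes (K ⊗[k] L)) :
    ∃ n : ℕ, Module.length (Localization.AtPrime q) (Localization.AtPrime q) = (p ^ n : ℕ) := by
  -- flip the tensor product
  let ec : K ⊗[k] L ≃ₐ[k] L ⊗[k] K := Algebra.TensorProduct.comm k K L
  obtain ⟨q', hq'def⟩ : ∃ q' : Ideal (L ⊗[k] K),
      q' = q.comap ec.toRingEquiv.symm.toRingHom := ⟨_, rfl⟩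
  have hq' : q' ∈ minimalPrimes (L ⊗[k] K) := by
    rw [hq'def]
    exact minimalPrimes_comap_ringEquiv' ec.toRingEquiv q hq
  haveI : q'.IsPrime := hq'.1.1
  have hH : Submonoid.map ec.toRingEquiv.toMonoidHom q.primeCompl = q'.primeCompl := by
    ext x
    constructor
    · rintro ⟨y, hy, rfl⟩
      intro hmem
      apply hy
      rw [hq'def] at hmem
      have h2 : ec.toRingEquiv.symm.toRingHom (ec.toRingEquiv.toMonoidHom y) ∈ q := hmem
      simpa using h2
    · intro hx
      refine ⟨ec.symm x, ?_, by simp⟩
      intro hmem
      apply hx
      rw [hq'def]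
      show ec.toRingEquiv.symm.toRingHom x ∈ q
      exact hmem
  have hlen : Module.length (Localization.AtPrime q) (Localization.AtPrime q) =
      Module.length (Localization.AtPrime q') (Localization.AtPrime q') :=
    length_eq_of_ringEquiv' (IsLocalization.ringEquivOfRingEquiv (Localization.AtPrime q)
      (Localization.AtPrime q') ec.toRingEquiv hH)
  rw [hlen]
  -- a purely transcendental subfield over which `L` is finite
  haveI hess : Algebra.EssFiniteType k L := IntermediateField.fg_top_iff.mp hL
  obtain ⟨s, hs⟩ := exists_isTranscendenceBasis k L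
  haveI halg : Algebra.IsAlgebraic
      (IntermediateField.adjoin k (Set.range ((↑) : s → L))) L := hs.isAlgebraic_field
  haveI : Algebra.EssFiniteType (IntermediateField.adjoin k (Set.range ((↑) : s → L))) L :=
    .of_comp k _ _
  haveI hfinE : Module.Finite (IntermediateField.adjoin k (Set.range ((↑) : s → L))) L :=
    Algebra.finite_of_essFiniteType_of_isAlgebraic
  have hdom : IsDomain (↥(IntermediateField.adjoin k (Set.range ((↑) : s → L))) ⊗[k] K) := by
    haveI h1 : IsDomain (K ⊗[k] FractionRing (MvPolynomial s k)) := isDomain_tensor_ratFunc k K s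
    let a : FractionRing (MvPolynomial s k) ≃ₐ[k]
        ↥(IntermediateField.adjoin k (Set.range ((↑) : s → L))) := hs.1.aevalEquivField
    let c1 : ↥(IntermediateField.adjoin k (Set.range ((↑) : s → L))) ⊗[k] K ≃ₐ[k]
        FractionRing (MvPolynomial s k) ⊗[k] K := Algebra.TensorProduct.congr a.symm AlgEquiv.refl
    let c2 : FractionRing (MvPolynomial s k) ⊗[k] K ≃ₐ[k]
        K ⊗[k] FractionRing (MvPolynomial s k) := Algebra.TensorProduct.comm k _ _
    exact Function.Injective.isDomain (c2.toRingEquiv.toRingHom.comp c1.toRingEquiv.toRingHom)
      (fun x y h => c1.injective (c2.injective h))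
  exact main_abs k K (IntermediateField.adjoin k (Set.range ((↑) : s → L))) L hdom p q' hq'

end Groth.Agent.Helper7.LenPow
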